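import Mathlib
import Groth.Agent.Lib.CurveLocus.Basic

/-!
Fibres under base change; geometric properties of fibres are insensitive to base change.
-/

universe u

open CategoryTheory Limits AlgebraicGeometry

namespace GrothLib.FibreBC

variable {X Y X' Y' : Scheme.{u}}

/-- The fibre of a base change is the base change of the fibre along the residue field extension. -/
theorem exists_isPullback_fiber {f : X ⟶ Y} {g : Y' ⟶ Y} {f' : X' ⟶ Y'} {g' : X' ⟶ X}
    (hc : IsPullback g' f' f g) (y' : Y') :
    ∃ i : f'.fiber y' ⟶ f.fiber (g y'), i ≫ f.fiberι (g y') = f'.fiberι y' ≫ g' ∧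
      IsPullback i (f'.fiberToSpecResidueField y') (f.fiberToSpecResidueField (g y'))
        (Spec.map (g.residueFieldMap y')) := by
  have hfs : Spec.map (g.residueFieldMap y') ≫ Y.fromSpecResidueField (g y') =
      Y'.fromSpecResidueField y' ≫ g := g.SpecMap_residueFieldMap_fromSpecResidueField y'
  have h1 : IsPullback (f'.fiberι y' ≫ g') (f'.fiberToSpecResidueField y') f
      (Y'.fromSpecResidueField y' ≫ g) :=
    (IsPullback.of_hasPullback f' (Y'.fromSpecResidueField y')).paste_horiz hc
  rw [← hfs] at h1
  let i : f'.fiber y' ⟶ f.fiber (g y') := pullback.lift (f'.fiberι y' ≫ g')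
    (f'.fiberToSpecResidueField y' ≫ Spec.map (g.residueFieldMap y'))
    (by rw [h1.w, Category.assoc])
  refine ⟨i, pullback.lift_fst _ _ _, IsPullback.of_right ?_ (pullback.lift_snd _ _ _)
    (IsPullback.of_hasPullback f (Y.fromSpecResidueField (g y')))⟩
  rw [show i ≫ pullback.fst f (Y.fromSpecResidueField (g y')) = _ from pullback.lift_fst _ _ _]
  exact h1

/-- A property descending along flat surjections is geometric over a field as soon as it is so
after a field extension. -/
theorem geometrically_of_fieldExtension (P : ObjectProperty Scheme.{u})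
    (hdesc : ∀ {Z' Z : Scheme.{u}} (π : Z' ⟶ Z) [Flat π] [Surjective π], P Z' → P Z)
    {k k' : Type u} [Field k] [Field k'] {p : X ⟶ Spec (CommRingCat.of k)}
    {q : X' ⟶ Spec (CommRingCat.of k')} {i : X' ⟶ X}
    {t : Spec (CommRingCat.of k') ⟶ Spec (CommRingCat.of k)}
    (h : IsPullback i q p t) (hq : geometrically P q) : geometrically P p := by
  intro K _ y Z fst snd hZ
  have : Surjective t := ⟨fun _ => ⟨Classical.arbitrary _, Subsingleton.elim (α := Spec (CommRingCat.of k)) _ _⟩⟩
  obtain ⟨w, -⟩ := (pullback.snd t y).surjective (Classical.arbitrary _)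
  let L := (pullback t y).residueField w
  let a : Spec L ⟶ Spec (CommRingCat.of k') := (pullback t y).fromSpecResidueField w ≫ pullback.fst t y
  let b : Spec L ⟶ Spec (CommRingCat.of K) := (pullback t y).fromSpecResidueField w ≫ pullback.snd t y
  have hab : a ≫ t = b ≫ y := by simp only [a, b, Category.assoc, pullback.condition]
  have : Surjective b := ⟨fun _ => ⟨Classical.arbitrary _, Subsingleton.elim (α := Spec (CommRingCat.of K)) _ _⟩⟩
  have : Flat b := GrothLib.CurveLocus.flat_to_spec_field _
  have h1 := (IsPullback.of_hasPullback snd b).paste_horiz hZ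
  rw [← hab] at h1
  have h2 : IsPullback (h.lift (pullback.fst snd b ≫ fst) (pullback.snd snd b ≫ a)
      (by rw [h1.w]; simp only [Category.assoc])) (pullback.snd snd b) q a := by
    refine IsPullback.of_right ?_ (h.lift_snd _ _ _) h
    rw [h.lift_fst]
    exact h1
  exact hdesc (pullback.fst snd b) (hq a _ _ h2)

theorem geometrically_fiber_iff (P : ObjectProperty Scheme.{u})
    (hdesc : ∀ {Z' Z : Scheme.{u}} (π : Z' ⟶ Z) [Flat π] [Surjective π], P Z' → P Z)
    {f : X ⟶ Y} {g : Y' ⟶ Y} {f' : X' ⟶ Y'} {g' : X' ⟶ X}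
    (hc : IsPullback g' f' f g) (y' : Y') :
    geometrically P (f'.fiberToSpecResidueField y') ↔
      geometrically P (f.fiberToSpecResidueField (g y')) := by
  obtain ⟨i, -, hi⟩ := exists_isPullback_fiber hc y'
  exact ⟨fun h => geometrically_of_fieldExtension P hdesc hi h,
    fun h => MorphismProperty.of_isPullback hi h⟩

theorem geometricallyReduced_fiber_iff {f : X ⟶ Y} {g : Y' ⟶ Y} {f' : X' ⟶ Y'} {g' : X' ⟶ X}
    (hc : IsPullback g' f' f g) (y' : Y') :
    GeometricallyReduced (f'.fiberToSpecResidueField y') ↔
      GeometricallyReduced (f.fiberToSpecResidueField (g y')) := by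
  rw [geometricallyReduced_iff, geometricallyReduced_iff]
  exact geometrically_fiber_iff (IsReduced ·)
    (fun π _ _ h => have := h; GrothLib.CurveLocus.isReduced_of_flat_of_surjective π) hc y'

theorem geometricallyIrreducible_fiber_iff {f : X ⟶ Y} {g : Y' ⟶ Y} {f' : X' ⟶ Y'} {g' : X' ⟶ X}
    (hc : IsPullback g' f' f g) (y' : Y') :
    GeometricallyIrreducible (f'.fiberToSpecResidueField y') ↔
      GeometricallyIrreducible (f.fiberToSpecResidueField (g y')) := by
  rw [geometricallyIrreducible_iff, geometricallyIrreducible_iff]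
  refine geometrically_fiber_iff (IrreducibleSpace ·) (fun π _ _ h => ?_) hc y'
  have := h
  rw [irreducibleSpace_def, Set.top_eq_univ, ← π.surjective.range_eq, ← Set.image_univ]
  exact (IrreducibleSpace.isIrreducible_univ _).image _ π.continuous.continuousOn

theorem geometricallyConnected_fiber_iff {f : X ⟶ Y} {g : Y' ⟶ Y} {f' : X' ⟶ Y'} {g' : X' ⟶ X}
    (hc : IsPullback g' f' f g) (y' : Y') :
    GeometricallyConnected (f'.fiberToSpecResidueField y') ↔
      GeometricallyConnected (f.fiberToSpecResidueField (g y')) := by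
  rw [geometricallyConnected_iff, geometricallyConnected_iff]
  exact geometrically_fiber_iff (ConnectedSpace ·)
    (fun π _ _ h => have := h; π.surjective.connectedSpace π.continuous) hc y'

theorem topologicalKrullDim_fiber {f : X ⟶ Y} [LocallyOfFiniteType f] {g : Y' ⟶ Y} {f' : X' ⟶ Y'}
    {g' : X' ⟶ X} (hc : IsPullback g' f' f g) (y' : Y') :
    topologicalKrullDim ↥(f'.fiber y') = topologicalKrullDim ↥(f.fiber (g y')) := by
  obtain ⟨i, -, hi⟩ := exists_isPullback_fiber hc y'
  have : LocallyOfFiniteType (f.fiberToSpecResidueField (g y')) :=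
    MorphismProperty.pullback_snd f _ inferInstance
  exact GrothLib.CurveLocus.topologicalKrullDim_of_isPullback (k := Y.residueField (g y'))
    (Ω := Y'.residueField y') _ hi

end GrothLib.FibreBC
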